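import Cfsg.Agent.Omega.NO3S.SN.Geo
import Cfsg.Agent.Omega.NO3S.SN.J.N2
import Cfsg.Agent.Omega.NO3S.Level.Basic
import Cfsg.Agent.SporRec.MaxFix

/-!
# SN.Two / SymBigL: the frame at every level (helper291 #20271 (B1)-(B3))

`V = V_P` the even subsets of `2^m + 1 ≥ 9` letters, `Q = O₂(P) = C_S(V)`, `L = N_G(V)`, `z = pt ε 0`.

* `Fr S P m ε` : `SN.Hyp` together with (stage independent) `Ω₁(Z(Q)) = V`, LEMMA N for `C_G(z)`, fusion in `V`;
* `Fr.evL` : `L` induces the full symmetric group; `Fr.conj_S`; `Fr.sylQ` : `Q ∈ Syl₂(C_G(V))`;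
* `Fr.two_le` : the 2-subgroups of `C_G(z)` over `Q` lie in `L`;
* `Fr.norm_le` : `N_G(T) ∩ C_G(z) ≤ L` for `Q ≤ T ≤ L`;
* `Fr.syl_le` : for `z ∈ D ≤ V` a Sylow subgroup of `C_G(D)` over `Q` lies in `L`;
* `Fr.exists_conj` : `z ∈ D ≤ V ∩ V^g` implies `V^g = V^c` with `c ∈ C_G(D)`;
* `Fr.U_comm`, `Fr.U_sq`, `Fr.U_le_Q`, `Fr.U_cent` : `U_z` is elementary abelian, `C_{U_z}(Q) = V`.
-/

set_option autoImplicit false
set_option linter.unusedSectionVars false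

namespace Cfsg.Agent.Omega.NO3S.SNL

open Subgroup Cfsg Cfsg.Agent.PLocal.ThompsonJ Cfsg.Agent.ZN Cfsg.Agent.ZN.ChoiceBase
open Cfsg.Agent.PLocal.ElemAbSup
open Cfsg.Agent.Omega.MinPar Cfsg.Agent.Omega.Frame Cfsg.Agent.Omega.FrameNOFF
open Cfsg.Agent.Omega.S5.Def Cfsg.Agent.Omega.S5.Syl Cfsg.Agent.Omega.S5.Pair
open Cfsg.Agent.Omega.NSix.Base Cfsg.Agent.Omega.NSix.Basic
open Cfsg.Agent.Omega.NO3S.SN (pt Cn Qn U mem_Cn mem_Cn' Base)
open Cfsg.Agent.ZN.ChoiceSit (Syl exists_syl syl_conj)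
open scoped Pointwise

universe u

variable {G : Type u} [Group G] [Finite G] {S : Sylow 2 G} {P : Subgroup G} {m : ℕ}
  {ε : (Fin (2 ^ m + 1) → ZMod 2) → G}

/-- **The frame at every level.** -/
structure Fr (S : Sylow 2 G) (P : Subgroup G) (m : ℕ) (ε : (Fin (2 ^ m + 1) → ZMod 2) → G) : Prop
    extends SN.Hyp S P m ε where
  /-- `Ω₁(Z(O₂(P))) = V` -/
  oz : ∀ u ∈ o2 P, u * u = 1 → (∀ q ∈ o2 P, q * u = u * q) → u ∈ zl (S : Subgroup G) P
  /-- LEMMA N, for the lines on `z` -/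
  lemN : ∀ g ∈ Cn (pt ε 0), o2 P ≤ normalizer ((cj g (zl (S : Subgroup G) P) : Subgroup G) : Set G) →
    g ∈ normalizer (zl (S : Subgroup G) P : Set G)
  /-- `N_G(V)` controls fusion in `V` -/
  ctl : ∀ v ∈ zl (S : Subgroup G) P, ∀ g : G, g * v * g⁻¹ ∈ zl (S : Subgroup G) P →
    ∃ k ∈ normalizer (zl (S : Subgroup G) P : Set G), k * v * k⁻¹ = g * v * g⁻¹

namespace Fr

variable (h : Fr S P m ε)
include h

theorem two_m : 2 ≤ m := le_trans (by norm_num) h.m3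

theorem three : 3 ≤ 2 ^ m + 1 := by have := h.toHyp.nine_le; omega

theorem SP : (S : Subgroup G) ≤ P := h.star.isLoc.le

theorem PV : P ≤ normalizer (zl (S : Subgroup G) P : Set G) := MinSimple.VModule.le_normalizer_zl _ _

theorem SV : (S : Subgroup G) ≤ normalizer (zl (S : Subgroup G) P : Set G) := h.SP.trans h.PV

/-- `N_G(V)` induces the full symmetric group on `V`. -/
theorem evL : EvenSet (2 ^ m + 1) (zl (S : Subgroup G) P) (normalizer (zl (S : Subgroup G) P : Set G)) ε :=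
  NSix.Norm.evenSet' h.two_m S h.ev h.SP h.fix0

theorem QS : o2 P ≤ (S : Subgroup G) := NO3S.OneLine.o2_le S h.star.toIsPar

theorem QP : o2 P ≤ P := h.QS.trans h.SP

/-- `Q = C_S(V)` -/
theorem inf_cent : (S : Subgroup G) ⊓ centralizer (zl (S : Subgroup G) P : Set G) = o2 P :=
  IsParS.inf_centralizer S h.ctx.char2 h.star

theorem cS {x : G} (hx : x ∈ (S : Subgroup G)) (hc : ∀ v ∈ zl (S : Subgroup G) P, x * v = v * x) :
    x ∈ o2 P := by
  rw [← h.inf_cent]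
  exact ⟨hx, mem_centralizer_iff.2 fun v hv => (hc v hv).symm⟩

theorem VcQ {x v : G} (hx : x ∈ o2 P) (hv : v ∈ zl (S : Subgroup G) P) : x * v = v * x := by
  rw [← h.inf_cent] at hx
  exact (mem_centralizer_iff.1 hx.2 v hv).symm

theorem V_elem : IsElementaryAbelian 2 (zl (S : Subgroup G) P) := isElementaryAbelian_iff.2
  ⟨fun x hx y hy => h.ev.comm_mem hx hy, fun x hx => by rw [pow_two]; exact h.ev.sq_mem hx⟩

theorem VQ : zl (S : Subgroup G) P ≤ o2 P := fun _ hx =>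
  (ChoiceBase.mem_zc.1 (h.star.isLoc.zl_le S h.ctx.char2 hx)).1

theorem VS : zl (S : Subgroup G) P ≤ (S : Subgroup G) := h.VQ.trans h.QS

/-- `Q ≤ C_G(z)` -/
theorem Q_le : o2 P ≤ Cn (pt ε 0) := fun _ hq => mem_Cn.2 (h.VcQ hq (h.ev.mem _))

theorem Q_le_L : o2 P ≤ normalizer (zl (S : Subgroup G) P : Set G) := h.QP.trans h.PV

/-- `S ∈ Syl₂(N_G(V))` -/
theorem syl_S : Syl (S : Subgroup G) (normalizer (zl (S : Subgroup G) P : Set G)) :=
  ⟨h.SV, S.isPGroup', fun _ _ hT hST => S.is_maximal' hT hST⟩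

/-- The 2-subgroups of `N_G(V)` are conjugate to subgroups of `S`. -/
theorem conj_S {R : Subgroup G} (hR : IsPGroup 2 R) (hRL : R ≤ normalizer (zl (S : Subgroup G) P : Set G)) :
    ∃ k ∈ normalizer (zl (S : Subgroup G) P : Set G), cj k R ≤ (S : Subgroup G) := by
  obtain ⟨T, hT, hRT⟩ := exists_syl hR hRL
  obtain ⟨k, hk, hkT⟩ := syl_conj hT h.syl_S
  exact ⟨k, hk, (cj_mono k hRT).trans hkT.le⟩

/-- `O₂(P)` is a Sylow 2-subgroup of `C_G(V)`. -/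
theorem sylQ : Syl (o2 P) (centralizer (zl (S : Subgroup G) P : Set G)) := by
  refine ⟨fun q hq => mem_centralizer_iff.2 fun v hv => (h.VcQ hq hv).symm, ChoiceSit.isPGroup_o2 P,
    fun R hR hR2 hQR => ?_⟩
  have hRM : R ≤ normalizer (zl (S : Subgroup G) P : Set G) := hR.trans (centralizer_le_normalizer _)
  obtain ⟨k, hk, hkS⟩ := h.conj_S hR2 hRM
  have h1 : cj k R ≤ o2 P := by
    intro x hx
    refine h.cS (hkS hx) fun v hv => ?_
    have h2 : cj k R ≤ centralizer (zl (S : Subgroup G) P : Set G) := by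
      have h3 := cj_mono k hR
      rwa [cj_centralizer, cj_eq_of_mem_normalizer hk] at h3
    exact (mem_centralizer_iff.1 (h2 hx) v hv).symm
  refine (Subgroup.eq_of_le_of_card_ge hQR ?_).symm
  rw [← card_cj k R]
  exact Subgroup.card_le_of_le h1

/-- **The 2-subgroups of `C_G(z)` over `Q` normalise `V`.** -/
theorem two_le {T : Subgroup G} (hT : IsPGroup 2 T) (hTz : T ≤ Cn (pt ε 0)) (hQ : o2 P ≤ T) :
    T ≤ normalizer (zl (S : Subgroup G) P : Set G) := by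
  set L := normalizer (zl (S : Subgroup G) P : Set G) with hL
  by_contra hcon
  have : Fact (Nat.Prime 2) := ⟨Nat.prime_two⟩
  have hlt : T ⊓ L < T := lt_of_le_of_ne inf_le_left fun e => hcon (inf_eq_left.1 e)
  refine (SporRec.MaxFix.lt_inf_normalizer hT hlt).not_ge ?_
  rintro t ⟨htT, ht⟩
  refine ⟨htT, h.lemN t (hTz htT) ?_⟩
  have h2 : cj t (T ⊓ L) = T ⊓ L := cj_eq_of_mem_normalizer ht
  have h3 : o2 P ≤ cj t (T ⊓ L) := by rw [h2]; exact le_inf hQ h.Q_le_L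
  refine h3.trans ((cj_mono t inf_le_right).trans ?_)
  rw [hL, cj_normalizer]

/-- `Q ≤ T ≤ L`: `N_G(T) ∩ C_G(z) ≤ L`. -/
theorem norm_le {T : Subgroup G} (hTL : T ≤ normalizer (zl (S : Subgroup G) P : Set G)) (hQ : o2 P ≤ T)
    {g : G} (hg : g ∈ normalizer (T : Set G)) (hz : g ∈ Cn (pt ε 0)) :
    g ∈ normalizer (zl (S : Subgroup G) P : Set G) := by
  refine h.lemN g hz (hQ.trans ?_)
  have h1 := cj_mono g hTL
  rwa [cj_eq_of_mem_normalizer hg, cj_normalizer] at h1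

omit h in
theorem cent_le {D : Subgroup G} (hz : pt ε 0 ∈ D) : centralizer (D : Set G) ≤ Cn (pt ε 0) :=
  centralizer_le (Set.singleton_subset_iff.2 hz)

theorem Q_le_cent {D : Subgroup G} (hD : D ≤ zl (S : Subgroup G) P) : o2 P ≤ centralizer (D : Set G) :=
  h.sylQ.1.trans (centralizer_le (SetLike.coe_subset_coe.2 hD))

/-- **The Sylow subgroups of `C_G(D)` over `Q` lie in `L`**, `z ∈ D ≤ V`. -/
theorem syl_le {D T : Subgroup G} (hz : pt ε 0 ∈ D) (hT : Syl T (centralizer (D : Set G))) (hQ : o2 P ≤ T) :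
    T ≤ normalizer (zl (S : Subgroup G) P : Set G) := h.two_le hT.2.1 (hT.1.trans (cent_le hz)) hQ

theorem exists_T {D : Subgroup G} (hD : D ≤ zl (S : Subgroup G) P) :
    ∃ T, Syl T (centralizer (D : Set G)) ∧ o2 P ≤ T := exists_syl (ChoiceSit.isPGroup_o2 P) (h.Q_le_cent hD)

/-- `z ∈ V^g` implies `V^g = V^c` with `c ∈ C_G(z)`. -/
theorem exists_cz {g : G} (hz : pt ε 0 ∈ cj g (zl (S : Subgroup G) P)) :
    ∃ c ∈ Cn (pt ε 0), cj g (zl (S : Subgroup G) P) = cj c (zl (S : Subgroup G) P) := by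
  rw [mem_cj] at hz
  obtain ⟨k, hk, hk1⟩ := h.ctl (pt ε 0) (h.ev.mem _) g⁻¹ (by rwa [inv_inv])
  refine ⟨g * k, mem_Cn'.2 ?_, ?_⟩
  · calc g * k * pt ε 0 * (g * k)⁻¹ = g * (k * pt ε 0 * k⁻¹) * g⁻¹ := by group
      _ = g * (g⁻¹ * pt ε 0 * g⁻¹⁻¹) * g⁻¹ := by rw [hk1]
      _ = pt ε 0 := by group
  · rw [← cj_cj, cj_eq_of_mem_normalizer hk]

/-- **`z ∈ D ≤ V ∩ V^g` implies `V^g = V^c` with `c ∈ C_G(D)`.** -/
theorem exists_conj {D : Subgroup G} {g : G} (hz : pt ε 0 ∈ D) (hD : D ≤ zl (S : Subgroup G) P)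
    (hD' : D ≤ cj g (zl (S : Subgroup G) P)) :
    ∃ c ∈ centralizer (D : Set G), cj g (zl (S : Subgroup G) P) = cj c (zl (S : Subgroup G) P) := by
  obtain ⟨c, hc, hcV⟩ := h.exists_cz (hD' hz)
  rw [hcV] at hD'
  have hQ2 : cj c (o2 P) ≤ centralizer (D : Set G) := by
    have h1 := cj_mono c h.sylQ.1
    rw [cj_centralizer] at h1
    exact h1.trans (centralizer_le (SetLike.coe_subset_coe.2 hD'))
  obtain ⟨T₁, hT₁, hQT₁⟩ := h.exists_T hD
  obtain ⟨T₂, hT₂, hQT₂⟩ := exists_syl (isPGroup_cj c (ChoiceSit.isPGroup_o2 P)) hQ2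
  obtain ⟨d, hd, hdT⟩ := syl_conj hT₁ hT₂
  have h1 := h.syl_le hz hT₁ hQT₁
  have h2 : o2 P ≤ normalizer ((cj (c⁻¹ * d) (zl (S : Subgroup G) P) : Subgroup G) : Set G) := by
    have h3 : cj c (o2 P) ≤ cj d (normalizer (zl (S : Subgroup G) P : Set G)) :=
      hQT₂.trans (hdT ▸ cj_mono d h1)
    rw [← cj_normalizer, ← cj_cj]
    exact cj_le_iff.1 h3
  have h4 := h.lemN _ (mul_mem (inv_mem hc) (cent_le hz hd)) h2
  refine ⟨d, hd, ?_⟩
  rw [hcV]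
  have h5 := cj_eq_of_mem_normalizer h4
  calc cj c (zl (S : Subgroup G) P) = cj c (cj (c⁻¹ * d) (zl (S : Subgroup G) P)) := by rw [h5]
    _ = cj d (zl (S : Subgroup G) P) := by rw [cj_cj]; congr 1; group

/-- **(TI)** the elements of `C_G(D)` fixing `v ∈ V` modulo nothing: `V ∩ V^g ∋ v`, `v ∉ D`. -/
theorem mem_conj {D : Subgroup G} {g v : G} (hz : pt ε 0 ∈ D) (hD : D ≤ zl (S : Subgroup G) P)
    (hg : g ∈ centralizer (D : Set G)) (hv : v ∈ zl (S : Subgroup G) P)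
    (hv' : g * v * g⁻¹ ∈ zl (S : Subgroup G) P) :
    ∃ c ∈ centralizer ((D ⊔ zpowers (g * v * g⁻¹) : Subgroup G) : Set G),
      cj g (zl (S : Subgroup G) P) = cj c (zl (S : Subgroup G) P) := by
  refine h.exists_conj (mem_sup_left hz) (sup_le hD (zpowers_le.2 hv')) (sup_le ?_ ?_)
  · intro d hd
    rw [mem_cj]
    have h1 := mem_centralizer_iff.1 hg d hd
    have h2 : g⁻¹ * d * g = d := by
      calc g⁻¹ * d * g = g⁻¹ * (d * g) := by group
        _ = g⁻¹ * (g * d) := by rw [h1]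
        _ = d := by group
    rw [h2]; exact hD hd
  · exact zpowers_le.2 ⟨v, hv, rfl⟩

/-! ### `U_z` -/

theorem U_sq {y x : G} (hx : x ∈ U (zl (S : Subgroup G) P) (pt ε 0) y) : x * x = 1 := by
  rw [← pow_two]
  exact h.toHyp.base.U_sq _ x hx

theorem U_le : U (zl (S : Subgroup G) P) (pt ε 0) (pt ε 0) ≤ zc (Qn (pt ε 0)) := by
  refine iSup_le fun g => ?_
  rintro _ ⟨v, hv, rfl⟩
  have hgz : (g : G) ∈ Cn (pt ε 0) := mem_Cn'.2 g.2
  have h1 : v ∈ zc (Qn (pt ε 0)) := h.toHyp.V_le hv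
  have h2 := (normalizer_le_of_cj (F := zc) NO3S.Level.zc_cj (Qn (pt ε 0)))
    (ChoiceSit.le_normalizer_o2 (Cn (pt ε 0)) hgz)
  exact (mem_normalizer_iff.1 h2 v).1 h1

theorem U_comm {x y : G} (hx : x ∈ U (zl (S : Subgroup G) P) (pt ε 0) (pt ε 0))
    (hy : y ∈ U (zl (S : Subgroup G) P) (pt ε 0) (pt ε 0)) : x * y = y * x :=
  (ChoiceBase.mem_zc.1 (h.U_le hy)).2.2 x (ChoiceBase.mem_zc.1 (h.U_le hx)).1

theorem V_le_U : zl (S : Subgroup G) P ≤ U (zl (S : Subgroup G) P) (pt ε 0) (pt ε 0) :=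
  h.toHyp.base.V_le_U 0

theorem U_le_Q : U (zl (S : Subgroup G) P) (pt ε 0) (pt ε 0) ≤ o2 P := by
  intro x hx
  refine h.cS (h.toHyp.o2_le_S (ChoiceBase.mem_zc.1 (h.U_le hx)).1) fun v hv => ?_
  exact h.U_comm hx (h.V_le_U hv)

/-- **`C_{U_z}(Q) = V`** -/
theorem U_cent {x : G} (hx : x ∈ U (zl (S : Subgroup G) P) (pt ε 0) (pt ε 0))
    (hc : ∀ q ∈ o2 P, q * x = x * q) : x ∈ zl (S : Subgroup G) P :=
  h.oz x (h.U_le_Q hx) (h.U_sq hx) hc

end Fr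

end Cfsg.Agent.Omega.NO3S.SNL
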