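import Cfsg.Agent.Omega.NO3S.SNL.Fr
import Cfsg.Agent.Omega.NO3S.SN.R1.Def

/-!
# SN.Two / SymBigL: the frame `R1.Ln` (helper677) from `Fr`

* `Fr.kg` : `C_G(z)` is a K-group; `Fr.fusPt` : fusion of the points `z_i` in `V`; **`Fr.toLn`**.
-/

set_option autoImplicit false
set_option linter.unusedSectionVars false

namespace Cfsg.Agent.Omega.NO3S.SNL

open Subgroup Cfsg Cfsg.Agent.ZN Cfsg.Agent.ZN.ChoiceBase
open Cfsg.Agent.Omega.MinPar Cfsg.Agent.Omega.Frame Cfsg.Agent.Omega.FrameNOFF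
open Cfsg.Agent.Omega.S5.Def Cfsg.Agent.Omega.S5.Syl Cfsg.Agent.Omega.S5.Pair
open Cfsg.Agent.Omega.NO3S.SN (pt Cn Qn U mem_Cn mem_Cn' Base)

universe u

variable {G : Type u} [Group G] [Finite G] {S : Sylow 2 G} {P : Subgroup G} {m : ℕ}
  {ε : (Fin (2 ^ m + 1) → ZMod 2) → G}

namespace Fr

variable (h : Fr S P m ε)
include h

/-- `C_G(z)` is a K-group. -/
theorem kg : IsKGroup (Cn (pt ε 0)) := by
  refine h.ctx.kproper _ fun htop => ?_
  have := h.ctx.simple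
  have hz : pt ε 0 ∈ center G := by
    rw [mem_center_iff]
    intro g
    have hg : g ∈ Cn (pt ε 0) := by rw [htop]; exact mem_top g
    exact mem_Cn.1 hg
  rcases (inferInstance : (center G).Normal).eq_bot_or_eq_top with h1 | h1
  · exact h.toHyp.z_ne_one (mem_bot.1 (h1 ▸ hz))
  · apply h.ctx.nonComm
    refine ⟨⟨fun a b => ?_⟩⟩
    have hb : b ∈ center G := by rw [h1]; exact mem_top b
    exact mem_center_iff.1 hb a

/-- the conjugates of the points `z_i` in `V` are points -/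
theorem fusPt (i : Fin (2 ^ m + 1)) (g : G) (hg : g * pt ε i * g⁻¹ ∈ zl (S : Subgroup G) P) :
    ∃ j, g * pt ε i * g⁻¹ = pt ε j := by
  obtain ⟨k, hk, hk1⟩ := h.ctl (pt ε i) (h.ev.mem _) g hg
  obtain ⟨σ, hσ⟩ := h.evL.perm k hk
  exact ⟨σ i, by rw [← hk1]; exact hσ.single i⟩

/-- **The frame of THEOREM R1.** -/
theorem toLn : SN.R1.Ln (zl (S : Subgroup G) P) ε (U (zl (S : Subgroup G) P) (pt ε 0) (pt ε 0)) where
  n5 := by have := h.toHyp.nine_le; omega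
  ev := h.evL
  VW := h.V_le_U
  Wn := Base.Cn_le_normalizer _ _
  Wc := fun _ ha _ hb => h.U_comm ha hb
  Ws := fun _ ha => h.U_sq ha
  fus := h.fusPt
  syl := fun Γ hΓ => by
    have hD : SN.R1.VG ε Γ ≤ zl (S : Subgroup G) P := by
      refine (closure_le _).2 ?_
      rintro _ ⟨x, -, rfl⟩
      exact h.ev.mem x
    have hz : pt ε 0 ∈ SN.R1.VG ε Γ := by
      have h0 : ∀ i ∈ Γ, (Pi.single 0 1 : Fin (2 ^ m + 1) → ZMod 2) i = 0 := fun i hi =>
        Pi.single_eq_of_ne (fun e : i = 0 => hΓ (e ▸ hi)) _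
      exact subset_closure ⟨Pi.single 0 1, fun i hi j hj => by rw [h0 i hi, h0 j hj], rfl⟩
    obtain ⟨T, hT, hQT⟩ := h.exists_T hD
    exact ⟨T, hT.1, h.syl_le hz hT hQT, hT.2.1, ChoiceSit.syl_not_dvd hT⟩
  kg := h.kg

end Fr

end Cfsg.Agent.Omega.NO3S.SNL
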