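import Mathlib.GroupTheory.FiniteAbelian.Duality
import Mathlib.GroupTheory.GroupAction.Quotient
import Mathlib.GroupTheory.Index
import Mathlib.GroupTheory.PGroup
import Mathlib.RingTheory.RootsOfUnity.PrimitiveRoots
import Mathlib.Tactic

/-!
# THEOREM TWO LIFTS (#23484, helper57)

`X` acts on the group `M` of exponent two, functionals are homomorphisms `M →* ℤˣ`.

* `exists_fn`, `exists_fn2`, `exists_fn_of_notMem` : enough functionals;
* `card_orbits` : (Brauer + Burnside) as many orbits on `M` as on its dual;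
* `orb_dual` : `K` fixes `y ≠ 1` and has one orbit on `M - ⟨y⟩`: then it has one orbit on the functionals `f` with
  `f y = -1`;
* **`two_lifts`** : moreover `T ≤ K` has odd index and stabilises `{θ, θ y}`, `E` is normalised by `C_T(θ)` and
  `y ∉ [M, E]`: then `[M, E] ≤ ⟨θ⟩` or `[M, E] ≤ ⟨θ y⟩`;
* `average` : the product of the orbit of `θ` under `K`, if it has odd length.
-/

set_option autoImplicit false
set_option linter.style.haveILetI false

namespace Cfsg.Agent.Omega.NO3S.SNL.TwoLifts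

open MulAction Subgroup

universe u v

section Fn

variable {M : Type v} [Group M]

theorem comm_of_sq (sq : ∀ m : M, m * m = 1) (a b : M) : a * b = b * a := by
  have h1 : (a * b) * (a * b) = 1 := sq (a * b)
  have ha : a⁻¹ = a := inv_eq_of_mul_eq_one_right (sq a)
  have hb : b⁻¹ = b := inv_eq_of_mul_eq_one_right (sq b)
  have h2 : (a * b)⁻¹ = a * b := inv_eq_of_mul_eq_one_right h1
  rw [mul_inv_rev, ha, hb] at h2
  exact h2.symm

theorem inv_of_sq (sq : ∀ m : M, m * m = 1) (a : M) : a⁻¹ = a := inv_eq_of_mul_eq_one_right (sq a)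

theorem mem_zp (sq : ∀ m : M, m * m = 1) {a m : M} (h : m ∈ Subgroup.zpowers a) : m = 1 ∨ m = a := by
  obtain ⟨n, hn⟩ := Subgroup.mem_zpowers_iff.1 h
  rcases Int.even_or_odd n with ⟨j, hj⟩ | ⟨j, hj⟩
  · left
    rw [← hn, hj, zpow_add]
    exact sq _
  · right
    rw [← hn, hj, zpow_add, two_mul, zpow_add, sq, one_mul, zpow_one]

theorem exp_dvd (sq : ∀ m : M, m * m = 1) : Monoid.exponent M ∣ 2 :=
  Monoid.exponent_dvd_of_forall_pow_eq_one fun g => by rw [pow_two, sq]

theorem roots_two : HasEnoughRootsOfUnity ℤ 2 where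
  prim := ⟨-1, IsPrimitiveRoot.neg_one 0 (by decide)⟩
  cyc := rootsOfUnity.isCyclic ℤ 2

theorem exists_fn [Finite M] (sq : ∀ m : M, m * m = 1) {a : M} (ha : a ≠ 1) : ∃ f : M →* ℤˣ, f a = -1 := by
  letI : CommGroup M := { (inferInstance : Group M) with mul_comm := comm_of_sq sq }
  haveI := roots_two
  haveI : HasEnoughRootsOfUnity ℤ (Monoid.exponent M) := HasEnoughRootsOfUnity.of_dvd ℤ (exp_dvd sq)
  obtain ⟨f, hf⟩ := CommGroup.exists_apply_ne_one_of_hasEnoughRootsOfUnity M ℤ ha
  exact ⟨f, (Int.units_eq_one_or (f a)).resolve_left hf⟩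

theorem card_fn [Finite M] (sq : ∀ m : M, m * m = 1) : Nat.card (M →* ℤˣ) = Nat.card M := by
  letI : CommGroup M := { (inferInstance : Group M) with mul_comm := comm_of_sq sq }
  haveI := roots_two
  haveI : HasEnoughRootsOfUnity ℤ (Monoid.exponent M) := HasEnoughRootsOfUnity.of_dvd ℤ (exp_dvd sq)
  exact CommGroup.card_monoidHom_of_hasEnoughRootsOfUnity M ℤ

theorem exists_fn2 [Finite M] (sq : ∀ m : M, m * m = 1) {a b : M} (ha : a ≠ 1) (hb : b ≠ 1) :
    ∃ f : M →* ℤˣ, f a = -1 ∧ f b = -1 := by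
  obtain ⟨f, hf⟩ := exists_fn sq ha
  obtain ⟨g, hg⟩ := exists_fn sq hb
  rcases Int.units_eq_one_or (f b) with h1 | h1
  · rcases Int.units_eq_one_or (g a) with h2 | h2
    · refine ⟨f * g, ?_, ?_⟩
      · rw [MonoidHom.mul_apply, hf, h2, mul_one]
      · rw [MonoidHom.mul_apply, h1, hg, one_mul]
    · exact ⟨g, h2, hg⟩
  · exact ⟨f, hf, h1⟩

/-- two vectors outside the subgroup `F` -/
theorem exists_fn_of_notMem [Finite M] (sq : ∀ m : M, m * m = 1) (F : Subgroup M) {a b : M} (ha : a ∉ F)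
    (hb : b ∉ F) : ∃ f : M →* ℤˣ, f a = -1 ∧ f b = -1 ∧ ∀ m ∈ F, f m = 1 := by
  haveI : F.Normal := ⟨fun n hn g => by rw [comm_of_sq sq g n, mul_assoc, mul_inv_cancel, mul_one]; exact hn⟩
  have sq' : ∀ m : M ⧸ F, m * m = 1 := by
    intro m
    induction m using QuotientGroup.induction_on with
    | H z => rw [← QuotientGroup.mk_mul, sq, QuotientGroup.mk_one]
  have ha' : (QuotientGroup.mk' F) a ≠ 1 := by
    intro h
    exact ha ((QuotientGroup.eq_one_iff a).1 h)
  have hb' : (QuotientGroup.mk' F) b ≠ 1 := by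
    intro h
    exact hb ((QuotientGroup.eq_one_iff b).1 h)
  obtain ⟨f, h1, h2⟩ := exists_fn2 sq' ha' hb'
  refine ⟨f.comp (QuotientGroup.mk' F), h1, h2, ?_⟩
  intro m hm
  have h3 : (QuotientGroup.mk' F) m = 1 := (QuotientGroup.eq_one_iff m).2 hm
  rw [MonoidHom.comp_apply, h3, map_one]

/-- the functionals which vanish on the image of an endomorphism -/
theorem card_fn_range [Finite M] (sq : ∀ m : M, m * m = 1) (φ : M →* M) :
    Nat.card {f : M →* ℤˣ // ∀ m, f (φ m) = 1} = Nat.card φ.ker := by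
  haveI : φ.range.Normal :=
    ⟨fun n hn g => by rw [comm_of_sq sq g n, mul_assoc, mul_inv_cancel, mul_one]; exact hn⟩
  have sq' : ∀ m : M ⧸ φ.range, m * m = 1 := by
    intro m
    induction m using QuotientGroup.induction_on with
    | H z => rw [← QuotientGroup.mk_mul, sq, QuotientGroup.mk_one]
  have e : {f : M →* ℤˣ // ∀ m, f (φ m) = 1} ≃ (M ⧸ φ.range →* ℤˣ) :=
    { toFun := fun f => QuotientGroup.lift φ.range f.1 (by
        rintro _ ⟨m, rfl⟩
        exact f.2 m)
      invFun := fun g => ⟨g.comp (QuotientGroup.mk' φ.range), fun m => by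
        have h3 : (QuotientGroup.mk' φ.range) (φ m) = 1 := (QuotientGroup.eq_one_iff (φ m)).2 ⟨m, rfl⟩
        rw [MonoidHom.comp_apply, h3, map_one]⟩
      left_inv := fun f => by
        apply Subtype.ext
        ext m
        simp
      right_inv := fun g => by
        ext m
        simp }
  rw [Nat.card_congr e, card_fn sq']
  have h1 : Nat.card φ.ker * φ.ker.index = Nat.card M := φ.ker.card_mul_index
  have h2 : Nat.card φ.range * φ.range.index = Nat.card M := φ.range.card_mul_index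
  rw [Subgroup.index_ker] at h1
  have h3 : 0 < Nat.card φ.range := Nat.card_pos
  have h4 : φ.range.index = Nat.card φ.ker := by
    have h5 : Nat.card φ.range * φ.range.index = Nat.card φ.range * Nat.card φ.ker := by
      rw [h2, ← h1, mul_comm]
    exact Nat.eq_of_mul_eq_mul_left h3 h5
  rw [← h4]
  rfl

end Fn

/-- the functionals, as a set with an action -/
def Fd (M : Type v) [Group M] : Type v := M →* ℤˣ

section Act

variable {X : Type u} [Group X] {M : Type v} [Group M] [MulDistribMulAction X M]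

instance : MulAction X (Fd M) where
  smul g f := MonoidHom.comp (M := M) (N := M) (P := ℤˣ) f (MulDistribMulAction.toMonoidHom M g⁻¹)
  one_smul f := by
    apply MonoidHom.ext
    intro m
    change (show M →* ℤˣ from f) ((1 : X)⁻¹ • m) = (show M →* ℤˣ from f) m
    rw [inv_one, one_smul]
  mul_smul a b f := by
    apply MonoidHom.ext
    intro m
    change (show M →* ℤˣ from f) ((a * b)⁻¹ • m) = (show M →* ℤˣ from f) (b⁻¹ • (a⁻¹ • m))
    rw [mul_inv_rev, mul_smul]

theorem smul_fd_apply (g : X) (f : Fd M) (m : M) :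
    (show M →* ℤˣ from (g • f)) m = (show M →* ℤˣ from f) (g⁻¹ • m) := rfl

theorem card_fixed [Finite M] (sq : ∀ m : M, m * m = 1) (g : X) :
    Nat.card (fixedBy (Fd M) g) = Nat.card (fixedBy M g) := by
  let φ : M →* M :=
    { toFun := fun m => (g⁻¹ • m) * m
      map_one' := by rw [smul_one, one_mul]
      map_mul' := fun a b => by
        rw [smul_mul']
        rw [mul_assoc, mul_assoc, ← mul_assoc (g⁻¹ • b) a b, comm_of_sq sq (g⁻¹ • b) a, mul_assoc] }
  have e1 : fixedBy (Fd M) g ≃ {f : M →* ℤˣ // ∀ m, f (φ m) = 1} :=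
    { toFun := fun f => ⟨f.1, fun m => by
        have h1 : (show M →* ℤˣ from f.1) (g⁻¹ • m) = (show M →* ℤˣ from f.1) m := by
          have h2 : g • f.1 = f.1 := f.2
          exact DFunLike.congr_fun (show (show M →* ℤˣ from g • f.1) = (show M →* ℤˣ from f.1) from h2) m
        change (show M →* ℤˣ from f.1) ((g⁻¹ • m) * m) = 1
        rw [map_mul, h1, ← map_mul, sq, map_one]⟩
      invFun := fun f => ⟨f.1, by
        change (g • (show Fd M from f.1)) = (show Fd M from f.1)
        apply MonoidHom.ext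
        intro m
        change f.1 (g⁻¹ • m) = f.1 m
        have h1 : f.1 ((g⁻¹ • m) * m) = 1 := f.2 m
        rw [map_mul] at h1
        rw [eq_inv_of_mul_eq_one_left h1, ← map_inv, inv_of_sq sq]⟩
      left_inv := fun f => rfl
      right_inv := fun f => rfl }
  have e2 : φ.ker ≃ fixedBy M g :=
    { toFun := fun m => ⟨m.1, by
        have h1 : (g⁻¹ • m.1) * m.1 = 1 := m.2
        have h2 : g⁻¹ • m.1 = m.1 := by
          rw [eq_inv_of_mul_eq_one_left h1, inv_of_sq sq]
        change g • m.1 = m.1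
        conv_lhs => rw [← h2]
        rw [smul_inv_smul]⟩
      invFun := fun m => ⟨m.1, by
        have h1 : g • m.1 = m.1 := m.2
        change (g⁻¹ • m.1) * m.1 = 1
        have h2 : g⁻¹ • m.1 = m.1 := by
          conv_lhs => rw [← h1]
          rw [inv_smul_smul]
        rw [h2, sq]⟩
      left_inv := fun f => rfl
      right_inv := fun f => rfl }
  rw [Nat.card_congr e1, card_fn_range sq φ, Nat.card_congr e2]

/-- **Brauer's permutation lemma + Burnside** -/
theorem card_orbits [Finite X] [Finite M] (sq : ∀ m : M, m * m = 1) :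
    Nat.card (orbitRel.Quotient X (Fd M)) = Nat.card (orbitRel.Quotient X M) := by
  classical
  haveI : Finite (Fd M) := inferInstanceAs (Finite (M →* ℤˣ))
  haveI := Fintype.ofFinite X
  haveI := Fintype.ofFinite M
  haveI := Fintype.ofFinite (Fd M)
  have h1 := sum_card_fixedBy_eq_card_orbits_mul_card_group X M
  have h2 := sum_card_fixedBy_eq_card_orbits_mul_card_group X (Fd M)
  have h3 : (∑ g : X, Fintype.card (fixedBy (Fd M) g)) = ∑ g : X, Fintype.card (fixedBy M g) := by
    refine Finset.sum_congr rfl fun g _ => ?_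
    rw [← Nat.card_eq_fintype_card, ← Nat.card_eq_fintype_card, card_fixed sq g]
  rw [h3, h1] at h2
  rw [Nat.card_eq_fintype_card, Nat.card_eq_fintype_card]
  exact (Nat.eq_of_mul_eq_mul_right Fintype.card_pos h2).symm

/-- **one orbit on the lifts: one orbit on the functionals `f` with `f y = -1`** -/
theorem orb_dual [Finite X] [Finite M] (sq : ∀ m : M, m * m = 1) {y θ : M} (hK : ∀ k : X, k • y = y)
    (h1 : θ ≠ 1) (h2 : θ ≠ y) (htr : ∀ m : M, m ≠ 1 → m ≠ y → ∃ k : X, k • θ = m) {f g : M →* ℤˣ}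
    (hf : f y = -1) (hg : g y = -1) : ∃ k : X, ∀ m, g (k • m) = f m := by
  classical
  haveI : Finite (Fd M) := inferInstanceAs (Finite (M →* ℤˣ))
  by_contra hcon
  have hle : Nat.card (orbitRel.Quotient X M) ≤ 3 := by
    let q : Fin 3 → orbitRel.Quotient X M := ![Quotient.mk _ 1, Quotient.mk _ y, Quotient.mk _ θ]
    have hq : Function.Surjective q := by
      intro c
      induction c using Quotient.inductionOn with
      | h m =>
        by_cases e1 : m = 1
        · exact ⟨0, by rw [e1]; rfl⟩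
        · by_cases e2 : m = y
          · exact ⟨1, by rw [e2]; rfl⟩
          · obtain ⟨k, hk⟩ := htr m e1 e2
            refine ⟨2, ?_⟩
            change (Quotient.mk _ θ : orbitRel.Quotient X M) = Quotient.mk _ m
            refine Quotient.sound ?_
            change orbitRel X M θ m
            rw [orbitRel_apply]
            exact ⟨k⁻¹, by change k⁻¹ • m = θ; rw [← hk, inv_smul_smul]⟩
    have := Nat.card_le_card_of_surjective q hq
    rwa [Nat.card_eq_fintype_card (α := Fin 3), Fintype.card_fin] at this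
  rw [← card_orbits (X := X) sq] at hle
  have hz : θ ∉ Subgroup.zpowers y := fun h => (mem_zp sq h).elim h1 h2
  obtain ⟨p, hp, -, hpy⟩ := exists_fn_of_notMem sq (Subgroup.zpowers y) hz hz
  have hpy' : p y = 1 := hpy y (Subgroup.mem_zpowers y)
  let c : Fd M → orbitRel.Quotient X (Fd M) := fun f => Quotient.mk _ f
  have hc : ∀ a b : Fd M, c a = c b → ∃ k : X, ∀ m, (show M →* ℤˣ from a) m = (show M →* ℤˣ from b) (k • m) := by
    intro a b hab
    have h3 : orbitRel X (Fd M) a b := Quotient.exact hab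
    rw [orbitRel_apply] at h3
    obtain ⟨k, hk⟩ := h3
    refine ⟨k⁻¹, fun m => ?_⟩
    have hk' : k • b = a := hk
    rw [← hk']
    rfl
  have hval : ∀ a b : Fd M, c a = c b → (show M →* ℤˣ from a) y = (show M →* ℤˣ from b) y := by
    intro a b hab
    obtain ⟨k, hk⟩ := hc a b hab
    rw [hk, hK]
  let a0 : Fd M := (1 : M →* ℤˣ)
  let a1 : Fd M := p
  let a2 : Fd M := f
  let a3 : Fd M := g
  have n01 : c a0 ≠ c a1 := by
    intro h
    obtain ⟨k, hk⟩ := hc _ _ h
    have h3 := hk (k⁻¹ • θ)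
    rw [smul_inv_smul] at h3
    change (1 : ℤˣ) = p θ at h3
    rw [hp] at h3
    exact absurd h3 (by decide)
  have n02 : c a0 ≠ c a2 := by
    intro h
    have h3 := hval _ _ h
    change (1 : ℤˣ) = f y at h3
    rw [hf] at h3
    exact absurd h3 (by decide)
  have n03 : c a0 ≠ c a3 := by
    intro h
    have h3 := hval _ _ h
    change (1 : ℤˣ) = g y at h3
    rw [hg] at h3
    exact absurd h3 (by decide)
  have n12 : c a1 ≠ c a2 := by
    intro h
    have h3 := hval _ _ h
    change p y = f y at h3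
    rw [hf, hpy'] at h3
    exact absurd h3 (by decide)
  have n13 : c a1 ≠ c a3 := by
    intro h
    have h3 := hval _ _ h
    change p y = g y at h3
    rw [hg, hpy'] at h3
    exact absurd h3 (by decide)
  have n23 : c a2 ≠ c a3 := by
    intro h
    obtain ⟨k, hk⟩ := hc _ _ h
    exact hcon ⟨k, fun m => (hk m).symm⟩
  have h4 : 4 ≤ Nat.card (orbitRel.Quotient X (Fd M)) := by
    haveI := Fintype.ofFinite (orbitRel.Quotient X (Fd M))
    rw [Nat.card_eq_fintype_card]
    have h5 : ({c a0, c a1, c a2, c a3} : Finset (orbitRel.Quotient X (Fd M))).card = 4 := by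
      rw [Finset.card_insert_of_notMem, Finset.card_insert_of_notMem, Finset.card_insert_of_notMem,
        Finset.card_singleton]
      · simpa using n23
      · simpa using ⟨n12, n13⟩
      · simpa using ⟨n01, n02, n03⟩
    rw [← h5]
    exact Finset.card_le_univ _
  omega

/-- a Sylow 2-subgroup (only: a subgroup of odd index) is transitive on an orbit of length a power of two -/
theorem trans_of_odd {G Ω : Type*} [Group G] [Finite G] [MulAction G Ω] (T : Subgroup G) (hT : ¬ 2 ∣ T.index)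
    {a b : Ω} (hb : b ∈ orbit G a) {n : ℕ} (hc : Nat.card (orbit G a) ∣ 2 ^ n) : ∃ t ∈ T, t • a = b := by
  classical
  have e1 : Nat.card (orbit G a) = (stabilizer G a).index := by
    rw [Subgroup.index, Nat.card_congr (orbitEquivQuotientStabilizer G a)]
  have e2 : Nat.card (orbit T a) = (stabilizer T a).index := by
    rw [Subgroup.index, Nat.card_congr (orbitEquivQuotientStabilizer T a)]
  have e3 : stabilizer T a = (stabilizer G a).subgroupOf T := by
    ext t
    rfl
  have e4 : (stabilizer G a).index ∣ (stabilizer G a).relIndex T * T.index := by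
    have h1 : (stabilizer G a ⊓ T).relIndex T * T.index = (stabilizer G a ⊓ T).index :=
      Subgroup.relIndex_mul_index inf_le_right
    have h2 : (stabilizer G a ⊓ T).relIndex (stabilizer G a) * (stabilizer G a).index =
        (stabilizer G a ⊓ T).index := Subgroup.relIndex_mul_index inf_le_left
    rw [Subgroup.inf_relIndex_right] at h1
    rw [h1, ← h2]
    exact dvd_mul_left _ _
  have e5 : Nat.Coprime (stabilizer G a).index T.index := by
    rw [← e1]
    refine Nat.Coprime.coprime_dvd_left hc ?_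
    refine Nat.Coprime.pow_left n ?_
    exact (Nat.Prime.coprime_iff_not_dvd Nat.prime_two).2 hT
  have e6 : (stabilizer G a).index ∣ (stabilizer G a).relIndex T := e5.dvd_of_dvd_mul_right e4
  have e7 : Nat.card (orbit G a) ≤ Nat.card (orbit T a) := by
    rw [e1, e2, e3]
    refine Nat.le_of_dvd ?_ e6
    exact Nat.pos_of_ne_zero (Subgroup.index_ne_zero_of_finite)
  have hfin : (orbit G a).Finite := Set.finite_range _
  have hsub : orbit T a ⊆ orbit G a := by
    rintro _ ⟨t, rfl⟩
    exact ⟨(t : G), rfl⟩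
  have heq : orbit T a = orbit G a := by
    refine Set.eq_of_subset_of_ncard_le hsub ?_ hfin
    simpa [Set.ncard] using! e7
  rw [← heq] at hb
  obtain ⟨t, ht⟩ := hb
  exact ⟨t, t.2, ht⟩

theorem card_pow_two [Finite M] (sq : ∀ m : M, m * m = 1) : ∃ n : ℕ, Nat.card M = 2 ^ n := by
  haveI : Fact (Nat.Prime 2) := ⟨Nat.prime_two⟩
  have h1 : IsPGroup 2 M := fun m => ⟨1, by rw [pow_one, pow_two, sq]⟩
  exact IsPGroup.iff_card.1 h1

/-- the number of functionals with `f y = -1` is a power of two -/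
theorem card_half [Finite M] (sq : ∀ m : M, m * m = 1) {y : M} (hy : y ≠ 1) :
    ∃ n : ℕ, Nat.card {f : M →* ℤˣ // f y = -1} ∣ 2 ^ n := by
  obtain ⟨n, hn⟩ := card_pow_two sq
  obtain ⟨f0, hf0⟩ := exists_fn sq hy
  refine ⟨n, ?_⟩
  rw [← hn, ← card_fn sq]
  have e : (M →* ℤˣ) ≃ {f : M →* ℤˣ // f y = -1} × Bool :=
    { toFun := fun f => if h : f y = -1 then (⟨f, h⟩, true)
        else (⟨f * f0, by
          rw [MonoidHom.mul_apply, hf0, (Int.units_eq_one_or (f y)).resolve_right h, one_mul]⟩, false)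
      invFun := fun c => if c.2 = true then c.1.1 else c.1.1 * f0
      left_inv := fun f => by
        by_cases h : f y = -1
        · simp [h]
        · simp only [h, dite_false]
          ext m
          rcases Int.units_eq_one_or (f0 m) with h1 | h1 <;> simp [h1]
      right_inv := fun c => by
        obtain ⟨⟨f, hf⟩, b⟩ := c
        cases b
        · have h1 : ¬ (f * f0) y = -1 := by
            rw [MonoidHom.mul_apply, hf, hf0]
            decide
          simp only [h1, dite_false, Prod.mk.injEq, Subtype.mk.injEq, and_true, Bool.false_eq_true, if_false]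
          ext m
          rcases Int.units_eq_one_or (f0 m) with h2 | h2 <;> simp [h2]
        · simp [hf] }
  rw [Nat.card_congr e, Nat.card_prod]
  exact dvd_mul_right _ _

/-- **THEOREM TWO LIFTS, the core**: `K` has one orbit on the functionals with `f y = -1`, `T ≤ K` of odd index
stabilises `{θ, θ y}`, `E` is normalised by `C_T(θ)` and `y ∉ F`, `[M, E] ≤ F`: then `[M, E] ≤ ⟨θ⟩` or `≤ ⟨θ y⟩` -/
theorem two_lifts_core [Finite X] [Finite M] (sq : ∀ m : M, m * m = 1) {y θ : M} (K T : Subgroup X)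
    (hs : ¬ 2 ∣ T.relIndex K) (h2 : θ ≠ 1) (h3 : θ ≠ y)
    (htr : ∀ f g : M →* ℤˣ, f y = -1 → g y = -1 → ∃ k ∈ K, ∀ m, g (k • m) = f m)
    (hKy : ∀ k ∈ K, k • y = y) (hT2 : ∀ t ∈ T, t • θ = θ ∨ t • θ = θ * y) (E : Subgroup X)
    (hE : ∀ t ∈ T, t • θ = θ → ∀ e ∈ E, t⁻¹ * e * t ∈ E) (F : Subgroup M) (hF : ∀ e ∈ E, ∀ m : M, (e • m) * m ∈ F)
    (hyF : y ∉ F) : ∃ θ' : M, (θ' = θ ∨ θ' = θ * y) ∧ ∀ e ∈ E, ∀ m : M, e • m = m ∨ e • m = m * θ' := by
  classical
  have hy1 : y ≠ 1 := fun h => hyF (h ▸ F.one_mem)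
  have hcomm := comm_of_sq sq
  obtain ⟨f0, hf0, -, hfF⟩ := exists_fn_of_notMem sq F hyF hyF
  -- `E` fixes `f0`
  have hE0 : ∀ e ∈ E, ∀ m, f0 (e • m) = f0 m := by
    intro e he m
    have h4 := hfF _ (hF e he m)
    rw [map_mul] at h4
    rw [eq_inv_of_mul_eq_one_left h4, ← map_inv, inv_of_sq sq]
  -- `T` is transitive
  obtain ⟨n, hn⟩ := card_half sq hy1
  have hTtr : ∀ g : M →* ℤˣ, g y = -1 → ∃ t ∈ T, ∀ m, g (t • m) = f0 m := by
    intro g hg
    haveI : Finite (Fd M) := inferInstanceAs (Finite (M →* ℤˣ))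
    have h5 : ¬ 2 ∣ (T.subgroupOf K).index := hs
    have hmem : (show Fd M from g) ∈ orbit K (show Fd M from f0) := by
      obtain ⟨k, hk, hkm⟩ := htr f0 g hf0 hg
      refine ⟨⟨k, hk⟩, ?_⟩
      apply MonoidHom.ext
      intro m
      change f0 (k⁻¹ • m) = g m
      rw [← hkm, smul_inv_smul]
    have hcard : Nat.card (orbit K (show Fd M from f0)) ∣ 2 ^ n := by
      have h6 : orbit K (show Fd M from f0) = {f : Fd M | (show M →* ℤˣ from f) y = -1} := by
        ext g'
        constructor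
        · rintro ⟨k, rfl⟩
          change f0 ((k : X)⁻¹ • y) = -1
          rw [hKy _ (K.inv_mem k.2), hf0]
        · intro hg'
          obtain ⟨k, hk, hkm⟩ := htr f0 g' hf0 hg'
          refine ⟨⟨k, hk⟩, ?_⟩
          apply MonoidHom.ext
          intro m
          change f0 (k⁻¹ • m) = (show M →* ℤˣ from g') m
          rw [← hkm, smul_inv_smul]
      rw [h6]
      exact hn
    obtain ⟨t, ht, hte⟩ := trans_of_odd (T.subgroupOf K) h5 hmem hcard
    refine ⟨(t : X), ht, ?_⟩
    intro m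
    have h7 : (show M →* ℤˣ from (t • (show Fd M from f0))) ((t : X) • m) = g ((t : X) • m) := by rw [hte]
    rw [← h7]
    change f0 ((t : X)⁻¹ • ((t : X) • m)) = f0 m
    rw [inv_smul_smul]
  -- the functionals which agree with `f0` on `θ` are fixed by `E`
  have key : ∀ g : M →* ℤˣ, g y = -1 → g θ = f0 θ → ∀ e ∈ E, ∀ m, g (e • m) = g m := by
    intro g hg hgθ e he m
    obtain ⟨t, ht, htm⟩ := hTtr g hg
    have hfix : t • θ = θ := by
      rcases hT2 t ht with h4 | h4
      · exact h4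
      · exfalso
        have h5 := htm θ
        rw [h4, map_mul, hg, hgθ] at h5
        rcases Int.units_eq_one_or (f0 θ) with h6 | h6
        · rw [h6] at h5
          exact absurd h5 (by decide)
        · rw [h6] at h5
          exact absurd h5 (by decide)
    have h6 : g (e • m) = f0 (t⁻¹ • (e • m)) := by rw [← htm, smul_inv_smul]
    have h7 : t⁻¹ • (e • m) = (t⁻¹ * e * t) • (t⁻¹ • m) := by
      rw [smul_smul, smul_smul, mul_assoc (t⁻¹ * e), mul_inv_cancel, mul_one]
    rw [h6, h7, hE0 _ (hE t ht hfix e he), ← htm, smul_inv_smul]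
  obtain ⟨θ', hθ', hf'⟩ : ∃ θ' : M, (θ' = θ ∨ θ' = θ * y) ∧ f0 θ' = 1 := by
    rcases Int.units_eq_one_or (f0 θ) with h6 | h6
    · exact ⟨θ, Or.inl rfl, h6⟩
    · refine ⟨θ * y, Or.inr rfl, ?_⟩
      rw [map_mul, h6, hf0]
      decide
  refine ⟨θ', hθ', ?_⟩
  intro e he m
  by_contra hcon
  push Not at hcon
  have hd1 : (e • m) * m ∉ Subgroup.zpowers θ' := by
    intro h
    rcases mem_zp sq h with h7 | h7
    · apply hcon.1
      rw [eq_inv_of_mul_eq_one_left h7, inv_of_sq sq]
    · apply hcon.2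
      rw [← h7, hcomm m, mul_assoc, sq, mul_one]
  have hy' : y ∉ Subgroup.zpowers θ' := by
    intro h
    rcases mem_zp sq h with h7 | h7
    · exact hy1 h7
    · rcases hθ' with h8 | h8
      · exact h3 (h8 ▸ h7.symm)
      · apply h2
        rw [h8] at h7
        exact (mul_eq_right.1 h7.symm)
  obtain ⟨g, hgy, hgd, hg1⟩ := exists_fn_of_notMem sq (Subgroup.zpowers θ') hy' hd1
  have hgθ' : g θ' = 1 := hg1 θ' (Subgroup.mem_zpowers θ')
  have hgθ : g θ = f0 θ := by
    rcases hθ' with h8 | h8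
    · rw [← h8, hgθ', hf']
    · have h9 : θ = θ' * y := by rw [h8, mul_assoc, sq, mul_one]
      rw [h9, map_mul, map_mul, hgθ', hgy, hf', hf0]
  have h10 := key g hgy hgθ e he m
  rw [map_mul, h10, ← map_mul, sq, map_one] at hgd
  exact absurd hgd (by decide)

/-- **THEOREM TWO LIFTS**: `K` has one orbit on `M - ⟨y⟩` -/
theorem two_lifts [Finite X] [Finite M] (sq : ∀ m : M, m * m = 1) {y θ : M} (K T : Subgroup X)
    (hs : ¬ 2 ∣ T.relIndex K) (h2 : θ ≠ 1) (h3 : θ ≠ y) (hKy : ∀ k ∈ K, k • y = y)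
    (htr : ∀ m : M, m ≠ 1 → m ≠ y → ∃ k ∈ K, k • θ = m)
    (hT2 : ∀ t ∈ T, t • θ = θ ∨ t • θ = θ * y) (E : Subgroup X)
    (hE : ∀ t ∈ T, t • θ = θ → ∀ e ∈ E, t⁻¹ * e * t ∈ E) (F : Subgroup M) (hF : ∀ e ∈ E, ∀ m : M, (e • m) * m ∈ F)
    (hyF : y ∉ F) : ∃ θ' : M, (θ' = θ ∨ θ' = θ * y) ∧ ∀ e ∈ E, ∀ m : M, e • m = m ∨ e • m = m * θ' := by
  refine two_lifts_core sq K T hs h2 h3 ?_ hKy hT2 E hE F hF hyF
  intro f g hf hg
  obtain ⟨k, hk⟩ := orb_dual (X := K) sq (y := y) (θ := θ) (fun k => hKy k k.2) h2 h3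
    (fun m h4 h5 => by
      obtain ⟨k, hk, hkm⟩ := htr m h4 h5
      exact ⟨⟨k, hk⟩, hkm⟩) hf hg
  exact ⟨k, k.2, hk⟩

/-- one orbit on `M / ⟨y⟩ - 1`, and the lifts of `θ` are conjugate -/
theorem trans_lifts (sq : ∀ m : M, m * m = 1) {y θ : M} (K : Subgroup X) (hKy : ∀ k ∈ K, k • y = y)
    (htr : ∀ m : M, m ≠ 1 → m ≠ y → ∃ k ∈ K, k • θ = m ∨ k • θ = m * y) {s : X} (hs : s ∈ K)
    (hsθ : s • θ = θ * y) : ∀ m : M, m ≠ 1 → m ≠ y → ∃ k ∈ K, k • θ = m := by
  intro m h1 h2
  obtain ⟨k, hk, h3 | h3⟩ := htr m h1 h2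
  · exact ⟨k, hk, h3⟩
  · refine ⟨k * s, K.mul_mem hk hs, ?_⟩
    rw [mul_smul, hsθ, smul_mul', h3, hKy k hk, mul_assoc, sq, mul_one]

/-- **AVERAGING**: the product `c` of the orbit `θ^K`, of odd length -/
theorem average [Finite X] (sq : ∀ m : M, m * m = 1) {y θ : M} (K : Subgroup X) (hK : ∀ x : X, ∀ k ∈ K, x * k * x⁻¹ ∈ K)
    (hKy : ∀ k ∈ K, k • y = y) (hodd : ¬ 2 ∣ Nat.card (orbit K θ)) :
    ∃ c : M, (∀ k ∈ K, k • c = c) ∧ (∀ x : X, x • θ = θ → x • c = c) ∧
      (∀ x : X, x • θ = θ * y → x • c = c * y) := by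
  classical
  letI : CommGroup M := { (inferInstance : Group M) with mul_comm := comm_of_sq sq }
  have hfin : (orbit K θ).Finite := Set.finite_range _
  let O : Finset M := hfin.toFinset
  have hO : ∀ m, m ∈ O ↔ ∃ k ∈ K, k • θ = m := by
    intro m
    rw [Set.Finite.mem_toFinset]
    constructor
    · rintro ⟨k, rfl⟩
      exact ⟨k, k.2, rfl⟩
    · rintro ⟨k, hk, rfl⟩
      exact ⟨⟨k, hk⟩, rfl⟩
  have hcard : Odd O.card := by
    rw [← Nat.not_even_iff_odd]
    intro h
    apply hodd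
    have h1 : Nat.card (orbit K θ) = O.card := by
      rw [Nat.card_eq_card_finite_toFinset hfin]
    rw [h1]
    exact h.two_dvd
  have hsm : ∀ x : X, x • (∏ m ∈ O, m) = ∏ m ∈ O, x • m := by
    intro x
    exact map_prod (MulDistribMulAction.toMonoidHom M x) (fun m => m) O
  refine ⟨∏ m ∈ O, m, ?_, ?_, ?_⟩
  · intro k hk
    rw [hsm]
    refine Finset.prod_bij (fun m _ => k • m) ?_ ?_ ?_ ?_
    · intro m hm
      obtain ⟨j, hj, rfl⟩ := (hO m).1 hm
      exact (hO _).2 ⟨k * j, K.mul_mem hk hj, by rw [mul_smul]⟩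
    · intro a _ b _ hab
      exact smul_left_cancel k hab
    · intro b hb
      obtain ⟨j, hj, rfl⟩ := (hO b).1 hb
      exact ⟨(k⁻¹ * j) • θ, (hO _).2 ⟨k⁻¹ * j, K.mul_mem (K.inv_mem hk) hj, rfl⟩, by
        rw [mul_smul, smul_inv_smul]⟩
    · intro a _
      rfl
  · intro x hx
    rw [hsm]
    refine Finset.prod_bij (fun m _ => x • m) ?_ ?_ ?_ ?_
    · intro m hm
      obtain ⟨j, hj, rfl⟩ := (hO m).1 hm
      refine (hO _).2 ⟨x * j * x⁻¹, hK x j hj, ?_⟩
      have h1 : x⁻¹ • θ = θ := by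
        conv_lhs => rw [← hx]
        rw [inv_smul_smul]
      rw [mul_smul, mul_smul, h1]
    · intro a _ b _ hab
      exact smul_left_cancel x hab
    · intro b hb
      obtain ⟨j, hj, rfl⟩ := (hO b).1 hb
      refine ⟨(x⁻¹ * j * x) • θ, (hO _).2 ⟨x⁻¹ * j * x, ?_, rfl⟩, ?_⟩
      · have := hK x⁻¹ j hj
        rwa [inv_inv] at this
      · rw [mul_smul, hx, mul_smul, smul_inv_smul]
    · intro a _
      rfl
  · intro x hx
    rw [hsm]
    have h1 : (∏ m ∈ O, x • m) = ∏ m ∈ O, (m * y) := by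
      refine Finset.prod_bij (fun m _ => (x • m) * y) ?_ ?_ ?_ ?_
      · intro m hm
        obtain ⟨j, hj, rfl⟩ := (hO m).1 hm
        have hj' := hK x j hj
        refine (hO _).2 ⟨x * j * x⁻¹, hj', ?_⟩
        have h2 : x • (j • θ) = (x * j * x⁻¹) • (x • θ) := by
          rw [smul_smul, smul_smul, inv_mul_cancel_right]
        rw [h2, hx, smul_mul', hKy _ hj', mul_assoc _ y y, sq, mul_one]
      · intro a _ b _ hab
        exact smul_left_cancel x (mul_right_cancel hab)
      · intro b hb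
        obtain ⟨j, hj, rfl⟩ := (hO b).1 hb
        have hj' : x⁻¹ * j * x ∈ K := by
          have := hK x⁻¹ j hj
          rwa [inv_inv] at this
        refine ⟨(x⁻¹ * j * x) • θ, (hO _).2 ⟨x⁻¹ * j * x, hj', rfl⟩, ?_⟩
        rw [mul_smul, hx, mul_smul, smul_inv_smul, smul_mul', hKy _ hj, mul_assoc, sq, mul_one]
      · intro a _
        rw [mul_assoc, sq, mul_one]
    rw [h1, Finset.prod_mul_distrib, Finset.prod_const]
    obtain ⟨r, hr⟩ := hcard
    rw [hr, pow_succ, pow_mul, pow_two, sq, one_pow, one_mul]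

end Act

end Cfsg.Agent.Omega.NO3S.SNL.TwoLifts
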